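import Groth.Agent.ResProp.EF.K58.Frame
import Groth.Agent.ResProp.EF.K622.KerPair
import Groth.Agent.ResProp.EF.K819.N4s

/-!
# P9: a point of the frame algebra over the chosen point `x` (helper420)

* `exists_col`: a non zero vector over a field is a column of an invertible matrix.
* `Fr.exists_point`: a point of `B` at which `φ` does not vanish lifts to a point of `Fr i₀ φ`.
* `ev p`, `p : Spec k ⟶ X`: evaluation `Γ(X, ⊤) → k`; `ev_ne_zero_iff`.
* `exists_lift`: a ring map `ψ : R → k` whose point lies in the open `W ⊆ Spec R` gives `p : Spec k ⟶ W`.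
* `exists_point`: from `FrRing.pt`: for `W = ⋃ D(s_IJ)`, `g : W ⟶ Z`, `φ_j ∈ Γ(Z)` without common zero, the frame algebra of
  `g^* φ` over `Γ(W, ⊤)` (or over `Γ(Spec F.R, W)`) has a `k`-point over `x`.
-/

set_option autoImplicit false

universe u

open CategoryTheory Limits AlgebraicGeometry

namespace Groth.Agent.ResProp.EF.K420

section Col

/-- A non zero vector over a field is the column `i₀` of an invertible matrix. -/
theorem exists_col {k : Type*} [Field k] {n : Type*} [Fintype n] [DecidableEq n] (i₀ : n) (v : n → k)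
    (hv : ∃ j, v j ≠ 0) : ∃ g : Matrix n n k, IsUnit g.det ∧ ∀ i, g i i₀ = v i := by
  obtain ⟨j₀, hj₀⟩ := hv
  let σ : Equiv.Perm n := Equiv.swap i₀ j₀
  refine ⟨Matrix.of fun i j => if j = i₀ then v i else if i = σ j then 1 else 0, ?_, fun i => by simp⟩
  rw [← Matrix.isUnit_iff_isUnit_det, ← Matrix.mulVec_injective_iff_isUnit]
  rw [← Matrix.coe_mulVecLin, ← LinearMap.ker_eq_bot, LinearMap.ker_eq_bot']
  intro c hc
  have hσ : ∀ i, σ (σ i) = i := fun i => by simp [σ]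
  have h1 : ∀ i, v i * c i₀ + (if σ i = i₀ then 0 else c (σ i)) = 0 := by
    intro i
    have h2 := congrFun hc i
    rw [Matrix.coe_mulVecLin, Matrix.mulVec, dotProduct, Pi.zero_apply,
      ← Finset.add_sum_erase _ _ (Finset.mem_univ i₀)] at h2
    have h3 : ∑ j ∈ Finset.univ.erase i₀,
        (Matrix.of fun i j => if j = i₀ then v i else if i = σ j then (1 : k) else 0) i j * c j =
        ∑ j ∈ Finset.univ.erase i₀, if j = σ i then c (σ i) else 0 := by
      refine Finset.sum_congr rfl fun j hj => ?_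
      have hj' : j ≠ i₀ := (Finset.mem_erase.1 hj).1
      simp only [Matrix.of_apply, if_neg hj']
      have : i = σ j ↔ j = σ i := ⟨fun e => by rw [e, hσ], fun e => by rw [e, hσ]⟩
      by_cases hh : j = σ i
      · rw [if_pos (this.2 hh), if_pos hh, one_mul, hh]
      · rw [if_neg (fun e => hh (this.1 e)), if_neg hh, zero_mul]
    rw [h3, Finset.sum_ite_eq'] at h2
    refine Eq.trans ?_ h2
    simp only [Matrix.of_apply, if_true, Finset.mem_erase, Finset.mem_univ, and_true, ne_eq, ite_not]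
  have h0 : c i₀ = 0 := by
    have h2 := h1 j₀
    rw [show σ j₀ = i₀ from Equiv.swap_apply_right _ _, if_pos rfl, add_zero] at h2
    exact (mul_eq_zero.1 h2).resolve_left hj₀
  funext i
  have h2 := h1 (σ i)
  rw [hσ] at h2
  by_cases hi : i = i₀
  · rw [hi, h0]
    rfl
  · rwa [h0, mul_zero, zero_add, if_neg hi] at h2

end Col

section FrPoint

variable {B : Type u} [CommRing B] {n : Type} [Fintype n] [DecidableEq n] (i₀ : n) (φ : n → B)

/-- A point of `B` at which `φ` does not vanish lifts to `Fr i₀ φ`. -/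
theorem exists_fr_point {k : Type*} [Field k] (y : B →+* k) (h : ∃ j, y (φ j) ≠ 0) :
    ∃ f : K58.Fr i₀ φ →+* k, f.comp (algebraMap B (K58.Fr i₀ φ)) = y := by
  obtain ⟨g, hg, hcol⟩ := exists_col i₀ (fun j => y (φ j)) h
  exact ⟨K58.Fr.lift y g hg hcol, K58.Fr.lift_comp y g hg hcol⟩

end FrPoint

section Ev

variable {k : Type u} [Field k] {X : Scheme.{u}}

/-- evaluation of global functions at a `k`-point -/
noncomputable def ev (p : Spec (.of k) ⟶ X) : Γ(X, ⊤) →+* k :=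
  (p.appTop ≫ (Scheme.ΓSpecIso (.of k)).hom).hom

theorem ev_ne_zero_iff (p : Spec (.of k) ⟶ X) (f : Γ(X, ⊤)) (y : Spec (.of k)) :
    ev p f ≠ 0 ↔ p y ∈ X.basicOpen f := by
  have h1 : p y ∈ X.basicOpen f ↔ y ∈ p ⁻¹ᵁ X.basicOpen f := Iff.rfl
  rw [h1, Scheme.preimage_basicOpen_top, basicOpen_eq_of_affine']
  have h2 : y.asIdeal = ⊥ := by
    rcases Ideal.eq_bot_or_top y.asIdeal with h | h
    · exact h
    · exact absurd h y.2.ne_top
  change _ ↔ ev p f ∉ y.asIdeal
  rw [h2]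
  rfl

theorem ev_comp {Y : Scheme.{u}} (p : Spec (.of k) ⟶ X) (g : X ⟶ Y) (f : Γ(Y, ⊤)) :
    ev (p ≫ g) f = ev p (g.appTop.hom f) := by
  rw [ev, ev, Scheme.Hom.comp_appTop]
  rfl

/-- `Spec` of a ring map as a point -/
theorem ev_spec {R : Type u} [CommRing R] (ψ : R →+* k) :
    (ev (Spec.map (CommRingCat.ofHom ψ))).comp (Scheme.ΓSpecIso (.of R)).inv.hom = ψ := by
  have h : (Scheme.ΓSpecIso (.of R)).inv ≫ (Spec.map (CommRingCat.ofHom ψ)).appTop ≫
      (Scheme.ΓSpecIso (.of k)).hom = CommRingCat.ofHom ψ := by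
    rw [Iso.inv_comp_eq, ← Scheme.ΓSpecIso_naturality]
  exact congrArg CommRingCat.Hom.hom h

end Ev

section Open

variable {R : Type u} [CommRing R] (W : (Spec (.of R)).Opens)

/-- restriction `R → Γ(W, ⊤)` -/
noncomputable def toW : R →+* Γ(W.toScheme, ⊤) := ((Scheme.ΓSpecIso (.of R)).inv ≫ W.ι.appTop).hom

/-- restriction `R → Γ(Spec R, W)` -/
noncomputable def toSec : R →+* Γ(Spec (.of R), W) :=
  ((Scheme.ΓSpecIso (.of R)).inv ≫ (Spec (.of R)).presheaf.map (homOfLE le_top).op).hom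

theorem topIso_toW : W.topIso.hom.hom.comp (toW W) = toSec W := by
  have h : W.ι.appTop ≫ W.topIso.hom = (Spec (.of R)).presheaf.map (homOfLE le_top).op := by
    rw [Scheme.Opens.ι_appTop, Scheme.Opens.topIso_hom]
    exact ((Spec (.of R)).presheaf.map_comp _ _).symm
  rw [toW, toSec, ← h]
  rfl

variable {k : Type u} [Field k] {W}

/-- a ring map `ψ : R → k` whose point lies in `W` is a point of `W` -/
theorem exists_lift (ψ : R →+* k) (h : ∀ y, (Spec.map (CommRingCat.ofHom ψ)) y ∈ W) :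
    ∃ p : Spec (.of k) ⟶ W.toScheme, p ≫ W.ι = Spec.map (CommRingCat.ofHom ψ) ∧ (ev p).comp (toW W) = ψ := by
  refine ⟨IsOpenImmersion.lift W.ι (Spec.map (CommRingCat.ofHom ψ)) ?_, IsOpenImmersion.lift_fac _ _ _, ?_⟩
  · rintro _ ⟨y, rfl⟩
    rw [Scheme.Opens.range_ι]
    exact h y
  · set p := IsOpenImmersion.lift W.ι (Spec.map (CommRingCat.ofHom ψ)) _ with hp
    have h1 : p ≫ W.ι = Spec.map (CommRingCat.ofHom ψ) := IsOpenImmersion.lift_fac _ _ _
    rw [← ev_spec ψ, ← h1]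
    ext r
    exact (ev_comp p W.ι _).symm

end Open

section Main

open Groth.Agent.Grpsch.AffGrpd Groth.Agent.ResProp.EF.K412 Groth.Agent.ResProp.EF.K819

variable {A B : Type u} [CommRing A] [CommRing B] {Lb : Type u} [CommRing Lb] [Algebra Lb A] {G : RGrpd A B}
  {D : Gen Lb G} {k : Type u} [Field k] {x : A →+* k} (F : FrRing D x)

/-- `W = ⋃ D(s_IJ)` -/
noncomputable abbrev WIJ : (Spec (.of F.R)).Opens := K622.opn (Set.range (sIJ F))

theorem WIJ_eq_iSup : WIJ F = ⨆ z, PrimeSpectrum.basicOpen (sIJ F z) := by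
  refine TopologicalSpace.Opens.ext (Set.ext fun y => (K622.mem_opn _ y).trans ?_)
  refine Iff.trans ?_ (TopologicalSpace.Opens.mem_iSup (ι := _) (s := fun z => PrimeSpectrum.basicOpen (sIJ F z))).symm
  constructor
  · rintro ⟨_, ⟨z, rfl⟩, h⟩
    exact ⟨z, h⟩
  · rintro ⟨z, h⟩
    exact ⟨_, ⟨z, rfl⟩, h⟩

/-- **the point `x` lifts to a point of `W`** -/
theorem exists_pt : ∃ (ψ : F.R →+* k) (p : Spec (.of k) ⟶ (WIJ F).toScheme), ψ.comp F.P.a = x ∧
    p ≫ (WIJ F).ι = Spec.map (CommRingCat.ofHom ψ) ∧ (ev p).comp (toW (WIJ F)) = ψ := by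
  obtain ⟨ψ, hx, h1, h2⟩ := F.pt
  have h3 := (sur_iff ψ).1 ⟨h1, h2⟩
  have h4 : K622.Gen (Set.range (sIJ F)) ψ := by
    rw [K622.Gen, ← h3, ← Set.range_comp]
    rfl
  obtain ⟨p, hp, hp'⟩ := exists_lift ψ ((K622.range_le_iff _ ψ).2 h4)
  exact ⟨ψ, p, hx, hp, hp'⟩

variable {Z : Scheme.{u}} (g : (WIJ F).toScheme ⟶ Z) {n : Type} [Fintype n] [DecidableEq n] (i₀ : n) (φ : n → Γ(Z, ⊤))

/-- **P9**: the frame algebra of `g^* φ` over `Γ(W)` has a `k`-point over `x`. -/
theorem exists_point (hφ : ∀ z : Z, ∃ j, z ∈ Z.basicOpen (φ j)) :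
    ∃ f : K58.Fr i₀ (fun j => g.appTop.hom (φ j)) →+* k,
      f.comp ((algebraMap _ (K58.Fr i₀ fun j => g.appTop.hom (φ j))).comp ((toW (WIJ F)).comp F.P.a)) = x := by
  obtain ⟨ψ, p, hx, hp, hp'⟩ := exists_pt F
  let y : Spec (.of k) := default
  obtain ⟨j, hj⟩ := hφ (g (p y))
  have hj' : ev p (g.appTop.hom (φ j)) ≠ 0 := by
    rw [← ev_comp, ev_ne_zero_iff _ _ y]
    exact hj
  obtain ⟨f, hf⟩ := exists_fr_point i₀ (fun j => g.appTop.hom (φ j)) (ev p) ⟨j, hj'⟩
  refine ⟨f, ?_⟩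
  rw [← RingHom.comp_assoc, hf, ← RingHom.comp_assoc, hp', hx]

/-- the same over `Γ(Spec F.R, W)` -/
theorem exists_point_sec (hφ : ∀ z : Z, ∃ j, z ∈ Z.basicOpen (φ j)) :
    ∃ f : K58.Fr i₀ (fun j => (WIJ F).topIso.hom.hom (g.appTop.hom (φ j))) →+* k,
      f.comp ((algebraMap _ (K58.Fr i₀ fun j => (WIJ F).topIso.hom.hom (g.appTop.hom (φ j)))).comp
        ((toSec (WIJ F)).comp F.P.a)) = x := by
  obtain ⟨ψ, p, hx, hp, hp'⟩ := exists_pt F
  let y : Spec (.of k) := default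
  obtain ⟨j, hj⟩ := hφ (g (p y))
  have hj' : ev p (g.appTop.hom (φ j)) ≠ 0 := by
    rw [← ev_comp, ev_ne_zero_iff _ _ y]
    exact hj
  have h1 : ((ev p).comp (WIJ F).topIso.inv.hom).comp (WIJ F).topIso.hom.hom = ev p := by
    rw [RingHom.comp_assoc, ← CommRingCat.hom_comp, Iso.hom_inv_id]
    rfl
  obtain ⟨f, hf⟩ := exists_fr_point i₀ (fun j => (WIJ F).topIso.hom.hom (g.appTop.hom (φ j)))
    ((ev p).comp (WIJ F).topIso.inv.hom) ⟨j, by
      change (((ev p).comp (WIJ F).topIso.inv.hom).comp (WIJ F).topIso.hom.hom) _ ≠ 0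
      rw [h1]
      exact hj'⟩
  refine ⟨f, ?_⟩
  rw [← RingHom.comp_assoc, hf, ← RingHom.comp_assoc, ← topIso_toW, ← RingHom.comp_assoc, h1, hp', hx]

end Main

section Prime

variable {A : Type u} [CommRing A] (x : PrimeSpectrum A)

/-- a `κ(x)`-point over `x` gives a prime over `x` -/
theorem prime_of_point {D : Type*} [CommRing D] [Algebra A D] (f : D →+* x.asIdeal.ResidueField)
    (h : f.comp (algebraMap A D) = algebraMap A x.asIdeal.ResidueField) :
    ∃ y : PrimeSpectrum D, PrimeSpectrum.comap (algebraMap A D) y = x := by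
  refine ⟨PrimeSpectrum.comap f ⊥, ?_⟩
  rw [← PrimeSpectrum.comap_comp_apply, h]
  refine PrimeSpectrum.ext (Ideal.ext fun a => ?_)
  change algebraMap A x.asIdeal.ResidueField a ∈ (⊥ : Ideal _) ↔ _
  rw [Ideal.mem_bot, Ideal.algebraMap_residueField_eq_zero]

end Prime

end Groth.Agent.ResProp.EF.K420
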