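import Groth.Agent.ResProp.EF.K412.Mid
import Groth.Agent.ResProp.EF.K420.Point

/-!
# M7: the point of the cover over `x`, from `MidData` (helper420)

`E : MidData F`, `φ : n → B0` with `I ≤ rad (φ)`; `D = Fr i₀ φ` over `D0`.

* `exists_pt_D0` : a point `χ : D0 → κ` over `x` with `χ (s_IJ) ≠ 0` for some `IJ`;
* `exists_ne_zero` : then `χ (φ j) ≠ 0` for some `j`;
* `exists_point` : a point `f : D → κ` over `x`;
* `pt`, `pt'` : a prime of `D` over `x` (`κ = κ(x)`), the field `pt` of `RCover` / `CoverDatum`.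
-/

set_option autoImplicit false

universe u

open Groth.Agent.Grpsch.AffGrpd Groth.Agent.ResProp.EF.K412 Groth.Agent.ResProp.EF.K819

namespace Groth.Agent.ResProp.EF.K420.Mid

variable {A B : Type u} [CommRing A] [CommRing B] {Lb : Type u} [CommRing Lb] [Algebra Lb A] {G : RGrpd A B}
  {D : Gen Lb G}

section

variable {κ : Type u} [Field κ] {x : A →+* κ} {F : FrRing D x} (E : MidData F)

include E in
/-- a point of `D0` over `x` at which some `s_IJ` does not vanish -/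
theorem exists_pt_D0 : ∃ χ : E.D0 →+* κ, (χ.comp (algebraMap F.R E.D0)).comp F.P.a = x ∧
    ∃ z, χ (algebraMap F.R E.D0 (sIJ F z)) ≠ 0 := by
  obtain ⟨ψ, hx, h1, h2⟩ := F.pt
  have h3 := (sur_iff ψ).1 ⟨h1, h2⟩
  obtain ⟨χ, hχ, -⟩ := E.pts ψ h3
  refine ⟨χ, by rw [hχ, hx], ?_⟩
  by_contra hne
  push Not at hne
  have h4 : Ideal.span (Set.range fun z => ψ (sIJ F z)) ≤ ⊥ := by
    rw [Ideal.span_le]
    rintro _ ⟨z, rfl⟩
    exact (RingHom.congr_fun hχ (sIJ F z)).symm.trans (hne z)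
  rw [h3, top_le_iff] at h4
  exact bot_ne_top h4

variable {E}

/-- the functions `φ` do not all vanish at a point of `W'` -/
theorem exists_ne_zero {n : Type} (φ : n → E.B0) (hφ : E.I ≤ (Ideal.span (Set.range φ)).radical) (χ : E.D0 →+* κ)
    (hχ : ∃ z, χ (algebraMap F.R E.D0 (sIJ F z)) ≠ 0) : ∃ j, χ (algebraMap E.B0 E.D0 (φ j)) ≠ 0 := by
  by_contra hne
  push Not at hne
  have hP : (RingHom.ker χ).IsPrime := RingHom.ker_isPrime χ
  obtain ⟨z, hz⟩ := hχ
  refine (E.cov (RingHom.ker χ) hP).1 ⟨z, fun h => hz h⟩ (hφ.trans ?_)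
  have hP' : ((RingHom.ker χ).comap (algebraMap E.B0 E.D0)).IsPrime := Ideal.comap_isPrime _ _
  rw [hP'.isRadical.radical_le_iff, Ideal.span_le]
  rintro _ ⟨j, rfl⟩
  exact hne j

variable (E)
variable {n : Type} [Fintype n] [DecidableEq n] (i₀ : n) (φ : n → E.B0)

/-- **a `κ`-point of `D = Fr i₀ φ` over `x`** -/
theorem exists_point (hφ : E.I ≤ (Ideal.span (Set.range φ)).radical) :
    ∃ f : K58.Fr i₀ (fun j => algebraMap E.B0 E.D0 (φ j)) →+* κ,
      f.comp ((algebraMap E.D0 (K58.Fr i₀ fun j => algebraMap E.B0 E.D0 (φ j))).comp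
        ((algebraMap F.R E.D0).comp F.P.a)) = x := by
  obtain ⟨χ, hx, hz⟩ := exists_pt_D0 E
  obtain ⟨f, hf⟩ := exists_fr_point i₀ (fun j => algebraMap E.B0 E.D0 (φ j)) χ (exists_ne_zero φ hφ χ hz)
  refine ⟨f, ?_⟩
  rw [← RingHom.comp_assoc, hf, ← RingHom.comp_assoc, hx]

end

section

variable {x : PrimeSpectrum A} {F : FrRing D (algebraMap A x.asIdeal.ResidueField)} (E : MidData F)
  {n : Type} [Fintype n] [DecidableEq n] (i₀ : n) (φ : n → E.B0)

/-- **M7**: a prime of `D = Fr i₀ φ` over `x` -/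
theorem pt (hφ : E.I ≤ (Ideal.span (Set.range φ)).radical) :
    ∃ y : PrimeSpectrum (K58.Fr i₀ fun j => algebraMap E.B0 E.D0 (φ j)),
      PrimeSpectrum.comap ((algebraMap E.D0 (K58.Fr i₀ fun j => algebraMap E.B0 E.D0 (φ j))).comp
        ((algebraMap F.R E.D0).comp F.P.a)) y = x := by
  obtain ⟨f, hf⟩ := exists_point E i₀ φ hφ
  refine ⟨PrimeSpectrum.comap f ⊥, ?_⟩
  rw [← PrimeSpectrum.comap_comp_apply, hf]
  refine PrimeSpectrum.ext (Ideal.ext fun a => ?_)
  change algebraMap A x.asIdeal.ResidueField a ∈ (⊥ : Ideal _) ↔ _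
  rw [Ideal.mem_bot, Ideal.algebraMap_residueField_eq_zero]

/-- **M7** for an `A`-algebra structure -/
theorem pt' (hφ : E.I ≤ (Ideal.span (Set.range φ)).radical)
    [Algebra A (K58.Fr i₀ fun j => algebraMap E.B0 E.D0 (φ j))]
    (hA : algebraMap A (K58.Fr i₀ fun j => algebraMap E.B0 E.D0 (φ j)) =
      (algebraMap E.D0 (K58.Fr i₀ fun j => algebraMap E.B0 E.D0 (φ j))).comp ((algebraMap F.R E.D0).comp F.P.a)) :
    ∃ y : PrimeSpectrum (K58.Fr i₀ fun j => algebraMap E.B0 E.D0 (φ j)),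
      PrimeSpectrum.comap (algebraMap A (K58.Fr i₀ fun j => algebraMap E.B0 E.D0 (φ j))) y = x := by
  rw [hA]
  exact pt E i₀ φ hφ

end

end Groth.Agent.ResProp.EF.K420.Mid
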